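import Mathlib

/-!
# S3086 END2 (E8) [AUT]: elementary abelian 2-groups of ring automorphisms of `M₂(F)`, `char F = 2`
-/

set_option autoImplicit false
set_option linter.unusedSimpArgs false

namespace Cfsg.Agent.Lib.Helper20.PGV

open Matrix

variable {F : Type*} [Field F]

/-- A ring automorphism of a matrix ring maps scalar matrices to scalar matrices. -/
theorem ringAut_scalar {n : Type*} [Fintype n] [DecidableEq n]
    (b : Matrix n n F ≃+* Matrix n n F) (c : F) :
    ∃ c' : F, b (Matrix.scalar n c) = Matrix.scalar n c' := by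
  have h : b (Matrix.scalar n c) ∈ Set.center (Matrix n n F) := by
    rw [Semigroup.mem_center_iff]
    intro y
    obtain ⟨x, rfl⟩ := b.surjective y
    rw [← map_mul, ← map_mul]
    congr 1
    exact ((Matrix.scalar_commute c (fun r => mul_comm c r) x).eq).symm
  rw [Matrix.center_eq_range] at h
  obtain ⟨c', hc'⟩ := h
  exact ⟨c', hc'.symm⟩

/-- Skolem–Noether for matrix rings over a field, for scalar-fixing ring automorphisms. -/
theorem exists_conj_of_scalar_fixing {n : Type*} [Fintype n] [DecidableEq n]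
    (b : Matrix n n F ≃+* Matrix n n F)
    (hb : ∀ c : F, b (Matrix.scalar n c) = Matrix.scalar n c) :
    ∃ g g' : Matrix n n F, g * g' = 1 ∧ g' * g = 1 ∧ ∀ x, b x = g * x * g' := by
  let bA : Matrix n n F ≃ₐ[F] Matrix n n F := AlgEquiv.ofRingEquiv (f := b) (fun c => by
    rw [Matrix.algebraMap_eq_diagonal]
    exact hb c)
  let f : Module.End F (n → F) ≃ₐ[F] Module.End F (n → F) :=
    (Matrix.toLinAlgEquiv'.symm.trans bA).trans Matrix.toLinAlgEquiv'
  obtain ⟨T, hT⟩ := f.eq_linearEquivConjAlgEquiv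
  refine ⟨LinearMap.toMatrix' T.toLinearMap, LinearMap.toMatrix' T.symm.toLinearMap, ?_, ?_, ?_⟩
  · rw [← LinearMap.toMatrix'_comp]
    simp
  · rw [← LinearMap.toMatrix'_comp]
    simp
  · intro x
    have h1 := congrArg (fun e => e (Matrix.toLin' x)) hT
    simp only [f] at h1
    apply Matrix.toLin'.injective
    rw [Matrix.toLin'_mul, Matrix.toLin'_mul, Matrix.toLin'_toMatrix', Matrix.toLin'_toMatrix']
    have h2 : ((Matrix.toLinAlgEquiv'.symm.trans bA).trans Matrix.toLinAlgEquiv') (Matrix.toLin' x)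
        = Matrix.toLin' (b x) := by
      simp only [AlgEquiv.trans_apply]
      have h3 : (Matrix.toLinAlgEquiv'.symm (Matrix.toLin' x) : Matrix n n F) = x := by
        apply Matrix.toLinAlgEquiv'.injective
        rw [AlgEquiv.apply_symm_apply]
        rfl
      rw [h3]
      rfl
    rw [← h2, h1]
    rfl

section char2

variable [CharP F 2]

omit [CharP F 2] in
/-- A matrix commuting with everything is scalar. -/
theorem eq_scalar_of_forall_commute {n : Type*} [Fintype n] [DecidableEq n] (k : Matrix n n F)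
    (h : ∀ x : Matrix n n F, k * x = x * k) : ∃ c : F, k = Matrix.scalar n c := by
  have hk : k ∈ Set.center (Matrix n n F) := by
    rw [Semigroup.mem_center_iff]
    intro y
    exact (h y).symm
  rw [Matrix.center_eq_range] at hk
  obtain ⟨c, hc⟩ := hk
  exact ⟨c, hc.symm⟩

/-- In characteristic 2, `x * x = 1` implies `x = 1` in a field. -/
theorem eq_one_of_mul_self_eq_one_char2 {x : F} (h : x * x = 1) : x = 1 := by
  have h1 : (x + 1) * (x + 1) = 0 := by
    have : (x + 1) * (x + 1) = x * x + (x + x) + 1 := by ring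
    rw [this, h, CharTwo.add_self_eq_zero, add_zero, CharTwo.add_self_eq_zero]
  have h2 : x + 1 = 0 := mul_self_eq_zero.mp h1
  have h3 : x = -1 := eq_neg_of_add_eq_zero_left h2
  rw [h3, CharTwo.neg_eq]

/-- In characteristic 2, squaring is injective on a field. -/
theorem eq_of_mul_self_eq_char2 {x y : F} (h : x * x = y * y) : x = y := by
  have h1 : (x + y) * (x + y) = 0 := by
    have : (x + y) * (x + y) = x * x + (x * y + x * y) + y * y := by ring
    rw [this, h, CharTwo.add_self_eq_zero, add_zero, CharTwo.add_self_eq_zero]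
  have h2 : x + y = 0 := mul_self_eq_zero.mp h1
  have h3 : x = -y := eq_neg_of_add_eq_zero_left h2
  rw [h3, CharTwo.neg_eq]

end char2

/-- Monoid bookkeeping: if `h₁² = h₂² = 1` and `h₁ x h₁ = h₂ x h₂` then `h₂ h₁` commutes with `x`. -/
theorem invol_conj_aux {M : Type*} [Monoid M] (h₁ h₂ x : M) (h1 : h₁ * h₁ = 1) (h2 : h₂ * h₂ = 1)
    (hx : h₁ * x * h₁ = h₂ * x * h₂) : (h₂ * h₁) * x = x * (h₂ * h₁) := by
  calc h₂ * h₁ * x = h₂ * (h₁ * x * (h₁ * h₁)) := by rw [h1, mul_one, mul_assoc]
    _ = h₂ * (h₁ * x * h₁) * h₁ := by simp only [mul_assoc]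
    _ = h₂ * (h₂ * x * h₂) * h₁ := by rw [hx]
    _ = (h₂ * h₂) * x * (h₂ * h₁) := by simp only [mul_assoc]
    _ = x * (h₂ * h₁) := by rw [h2, one_mul]

/-- Monoid bookkeeping: if `h₁² = h₂² = 1` and the conjugations by `h₁` and `h₂` commute, then `(h₂ h₁)²` is central. -/
theorem invol_comm_aux {M : Type*} [Monoid M] (h₁ h₂ : M) (h1 : h₁ * h₁ = 1) (h2 : h₂ * h₂ = 1)
    (hyp : ∀ y, h₁ * (h₂ * y * h₂) * h₁ = h₂ * (h₁ * y * h₁) * h₂) (x : M) :
    (h₂ * h₁ * (h₂ * h₁)) * x = x * (h₂ * h₁ * (h₂ * h₁)) := by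
  have c1 : ∀ y, h₁ * (h₁ * y) = y := fun y => by rw [← mul_assoc, h1, one_mul]
  have c2 : ∀ y, h₂ * (h₂ * y) = y := fun y => by rw [← mul_assoc, h2, one_mul]
  have hy := hyp (h₂ * h₁ * x)
  calc (h₂ * h₁ * (h₂ * h₁)) * x
      = (h₂ * (h₁ * (h₂ * h₁ * x) * h₁) * h₂) * (h₂ * h₁) := by
        simp only [mul_assoc, c1, c2, h1, h2, mul_one]
    _ = (h₁ * (h₂ * (h₂ * h₁ * x) * h₂) * h₁) * (h₂ * h₁) := by rw [hy]
    _ = x * (h₂ * h₁ * (h₂ * h₁)) := by
        simp only [mul_assoc, c1, c2, h1, h2, mul_one]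

section two

variable [CharP F 2]

/-- An involutive scalar-fixing ring automorphism of `M₂(F)` (`F` finite of characteristic 2) is conjugation by
`1 + n` with `n² = 0`. -/
theorem exists_sq_zero_conj [Finite F]
    (b : Matrix (Fin 2) (Fin 2) F ≃+* Matrix (Fin 2) (Fin 2) F)
    (hb : ∀ c : F, b (Matrix.scalar (Fin 2) c) = Matrix.scalar (Fin 2) c)
    (hb2 : ∀ x, b (b x) = x) :
    ∃ n : Matrix (Fin 2) (Fin 2) F, n * n = 0 ∧ ∀ x, b x = (1 + n) * x * (1 + n) := by
  obtain ⟨g, g', hgg', hg'g, hconj⟩ := exists_conj_of_scalar_fixing b hb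
  have hsq : ∀ x, (g * g) * x = x * (g * g) := by
    intro x
    have h := hb2 x
    rw [hconj (b x), hconj x] at h
    have h2 : g' * (g' * (g * g)) = 1 := by
      rw [← mul_assoc g' g g, hg'g, one_mul, hg'g]
    calc g * g * x = g * g * x * (g' * (g' * (g * g))) := by rw [h2, mul_one]
      _ = (g * (g * x * g') * g') * (g * g) := by simp only [mul_assoc]
      _ = x * (g * g) := by rw [h]
  obtain ⟨μ, hμ⟩ := eq_scalar_of_forall_commute (g * g) hsq
  have hμ0 : μ ≠ 0 := by
    rintro rfl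
    rw [map_zero] at hμ
    have h2 : g' * (g' * (g * g)) = 1 := by
      rw [← mul_assoc g' g g, hg'g, one_mul, hg'g]
    rw [hμ, mul_zero, mul_zero] at h2
    exact zero_ne_one h2
  obtain ⟨ν, hν⟩ := FiniteField.isSquare_of_char_two (ringChar.eq F 2) μ
  have hν0 : ν ≠ 0 := by
    rintro rfl
    rw [mul_zero] at hν
    exact hμ0 hν
  -- `h := ν⁻¹ • g` squares to one
  set h : Matrix (Fin 2) (Fin 2) F := ν⁻¹ • g with hh
  have hh2 : h * h = 1 := by
    rw [hh, Matrix.smul_mul, Matrix.mul_smul, smul_smul, hμ, hν]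
    ext i j
    fin_cases i <;> fin_cases j <;> simp [Matrix.scalar_apply, Matrix.diagonal] <;> field_simp
  have hg'eq : g' = μ⁻¹ • g := by
    have h1 : g' * (g * g) = g := by rw [← mul_assoc, hg'g, one_mul]
    rw [hμ] at h1
    have h2 : μ • g' = g := by
      rw [← h1]
      ext i j
      simp [Matrix.mul_apply, Matrix.scalar_apply, Matrix.diagonal, mul_comm]
    rw [← h2, smul_smul, inv_mul_cancel₀ hμ0, one_smul]
  have hbh : ∀ x, b x = h * x * h := by
    intro x
    rw [hconj x, hg'eq, hh, Matrix.smul_mul, Matrix.smul_mul, Matrix.mul_smul, Matrix.mul_smul, smul_smul, hν]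
    congr 1
    field_simp
  refine ⟨h + 1, ?_, ?_⟩
  · have : (h + 1) * (h + 1) = h * h + (h + h) + 1 := by noncomm_ring
    rw [this, hh2, CharTwo.add_self_eq_zero, add_zero, CharTwo.add_self_eq_zero]
  · intro x
    have h1 : (1 : Matrix (Fin 2) (Fin 2) F) + (h + 1) = h := by
      rw [add_comm h 1, ← add_assoc, CharTwo.add_self_eq_zero, zero_add]
    rw [h1]
    exact hbh x

theorem one_add_sq_zero_mul_self (n : Matrix (Fin 2) (Fin 2) F) (hn : n * n = 0) :
    (1 + n) * (1 + n) = 1 := by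
  have : (1 + n) * (1 + n) = 1 + (n + n) + n * n := by noncomm_ring
  rw [this, hn, CharTwo.add_self_eq_zero, add_zero, add_zero]

/-- Uniqueness of the normalized conjugator. -/
theorem sq_zero_unique (n n' : Matrix (Fin 2) (Fin 2) F) (hn : n * n = 0) (hn' : n' * n' = 0)
    (h : ∀ x, (1 + n) * x * (1 + n) = (1 + n') * x * (1 + n')) : n = n' := by
  have h1 := one_add_sq_zero_mul_self n hn
  have h2 := one_add_sq_zero_mul_self n' hn'
  have hk : ∀ x, ((1 + n') * (1 + n)) * x = x * ((1 + n') * (1 + n)) := by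
    intro x
    have hx := h x
    exact invol_conj_aux (1 + n) (1 + n') x h1 h2 hx
  obtain ⟨l, hl⟩ := eq_scalar_of_forall_commute _ hk
  have h3 : (1 + n) = (1 + n') * Matrix.scalar (Fin 2) l := by
    rw [← hl, ← mul_assoc, h2, one_mul]
  have h4 : (1 : Matrix (Fin 2) (Fin 2) F) = Matrix.scalar (Fin 2) (l * l) := by
    have : (1 + n) * (1 + n) = (1 + n') * (1 + n') * (Matrix.scalar (Fin 2) l * Matrix.scalar (Fin 2) l) := by
      rw [h3]
      have hc : Matrix.scalar (Fin 2) l * (1 + n') = (1 + n') * Matrix.scalar (Fin 2) l :=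
        ((Matrix.scalar_commute l (fun r => mul_comm l r) (1 + n')).eq)
      calc (1 + n') * (scalar (Fin 2)) l * ((1 + n') * (scalar (Fin 2)) l)
          = (1 + n') * ((scalar (Fin 2)) l * (1 + n')) * (scalar (Fin 2)) l := by simp only [mul_assoc]
        _ = (1 + n') * ((1 + n') * (scalar (Fin 2)) l) * (scalar (Fin 2)) l := by rw [hc]
        _ = _ := by simp only [mul_assoc]
    rw [h1, h2, one_mul, ← map_mul] at this
    exact this
  have h5 : l * l = 1 := by
    have := congrFun (congrFun h4 0) 0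
    simpa [Matrix.scalar_apply] using this.symm
  have h6 : l = 1 := eq_one_of_mul_self_eq_one_char2 h5
  rw [h6, map_one, mul_one] at h3
  exact add_left_cancel h3

/-- Commuting square-zero `2 × 2` matrices in characteristic 2 are proportional. -/
theorem smul_of_commute_sq_zero (n n' : Matrix (Fin 2) (Fin 2) F) (hn : n * n = 0) (hn' : n' * n' = 0)
    (hn0 : n ≠ 0) (hc : n * n' = n' * n) : ∃ c : F, n' = c • n := by
  -- entries
  have e00 := congrFun (congrFun hn 0) 0
  have e01 := congrFun (congrFun hn 0) 1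
  have e11 := congrFun (congrFun hn 1) 1
  have e00' := congrFun (congrFun hn' 0) 0
  have e11' := congrFun (congrFun hn' 1) 1
  have c00 := congrFun (congrFun hc 0) 0
  simp only [Matrix.mul_apply, Fin.sum_univ_two, Matrix.zero_apply] at e00 e01 e11 e00' e11' c00
  -- `n 1 1 = n 0 0`
  have hd : n 1 1 = n 0 0 := by
    apply eq_of_mul_self_eq_char2
    have h1 : n 1 1 * n 1 1 = -(n 1 0 * n 0 1) := eq_neg_of_add_eq_zero_right e11
    have h2 : n 0 0 * n 0 0 = -(n 0 1 * n 1 0) := eq_neg_of_add_eq_zero_left e00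
    rw [h1, h2, mul_comm]
  have hd' : n' 1 1 = n' 0 0 := by
    apply eq_of_mul_self_eq_char2
    have h1 : n' 1 1 * n' 1 1 = -(n' 1 0 * n' 0 1) := eq_neg_of_add_eq_zero_right e11'
    have h2 : n' 0 0 * n' 0 0 = -(n' 0 1 * n' 1 0) := eq_neg_of_add_eq_zero_left e00'
    rw [h1, h2, mul_comm]
  have ha : n 0 0 * n 0 0 = n 0 1 * n 1 0 := by
    have h2 : n 0 0 * n 0 0 = -(n 0 1 * n 1 0) := eq_neg_of_add_eq_zero_left e00
    rw [h2, CharTwo.neg_eq]
  have ha' : n' 0 0 * n' 0 0 = n' 0 1 * n' 1 0 := by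
    have h2 : n' 0 0 * n' 0 0 = -(n' 0 1 * n' 1 0) := eq_neg_of_add_eq_zero_left e00'
    rw [h2, CharTwo.neg_eq]
  have hbc : n 0 1 * n' 1 0 = n' 0 1 * n 1 0 := by
    have : n 0 0 * n' 0 0 = n' 0 0 * n 0 0 := mul_comm _ _
    rw [this] at c00
    exact add_left_cancel c00
  by_cases hb : n 0 1 = 0
  · -- then `n 0 0 = 0`, `n 1 0 ≠ 0`
    have ha0 : n 0 0 = 0 := by
      rw [hb, zero_mul] at ha
      exact mul_self_eq_zero.mp ha
    have hc0 : n 1 0 ≠ 0 := by
      intro h
      apply hn0
      ext i j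
      fin_cases i <;> fin_cases j <;> simp [hb, ha0, h, hd]
    have hb' : n' 0 1 = 0 := by
      rw [hb, zero_mul] at hbc
      rcases mul_eq_zero.mp hbc.symm with h | h
      · exact h
      · exact absurd h hc0
    have ha0' : n' 0 0 = 0 := by
      rw [hb', zero_mul] at ha'
      exact mul_self_eq_zero.mp ha'
    refine ⟨n' 1 0 / n 1 0, ?_⟩
    ext i j
    fin_cases i <;> fin_cases j <;> simp [hb, ha0, hb', ha0', hd, hd', hc0]
  · refine ⟨n' 0 1 / n 0 1, ?_⟩
    have h10 : n' 1 0 = n' 0 1 / n 0 1 * n 1 0 := by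
      field_simp
      rw [mul_comm, hbc]
    have h00 : n' 0 0 = n' 0 1 / n 0 1 * n 0 0 := by
      apply eq_of_mul_self_eq_char2
      rw [ha']
      have : n' 0 1 / n 0 1 * n 0 0 * (n' 0 1 / n 0 1 * n 0 0) =
          (n' 0 1 / n 0 1) * (n' 0 1 / n 0 1) * (n 0 0 * n 0 0) := by ring
      rw [this, ha]
      nth_rewrite 1 [h10]
      field_simp
    ext i j
    fin_cases i <;> fin_cases j
    · simpa using h00
    · simp [hb]
    · simpa using h10
    · simp only [Fin.mk_one, Fin.isValue, Matrix.smul_apply, smul_eq_mul]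
      rw [hd, hd']
      exact h00

/-- If the conjugations by `1 + n` and `1 + n'` (square-zero `n, n'`) commute, then `n` and `n'` commute. -/
theorem commute_of_conj_commute (n n' : Matrix (Fin 2) (Fin 2) F) (hn : n * n = 0) (hn' : n' * n' = 0)
    (h : ∀ x, (1 + n) * ((1 + n') * x * (1 + n')) * (1 + n) =
      (1 + n') * ((1 + n) * x * (1 + n)) * (1 + n')) : n * n' = n' * n := by
  have h1 := one_add_sq_zero_mul_self n hn
  have h2 := one_add_sq_zero_mul_self n' hn'
  obtain ⟨l, hl⟩ := eq_scalar_of_forall_commute _ (invol_comm_aux (1 + n) (1 + n') h1 h2 h)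
  have hdet : ((1 + n') * (1 + n) * ((1 + n') * (1 + n))).det = 1 := by
    have d1 : (1 + n).det * (1 + n).det = 1 := by rw [← Matrix.det_mul, h1, Matrix.det_one]
    have d2 : (1 + n').det * (1 + n').det = 1 := by rw [← Matrix.det_mul, h2, Matrix.det_one]
    rw [Matrix.det_mul, Matrix.det_mul]
    calc (1 + n').det * (1 + n).det * ((1 + n').det * (1 + n).det)
        = ((1 + n').det * (1 + n').det) * ((1 + n).det * (1 + n).det) := by ring
      _ = 1 := by rw [d1, d2, one_mul]
  rw [hl, Matrix.det_fin_two] at hdet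
  have hll : l * l = 1 := by simpa [Matrix.scalar_apply] using hdet
  have hl1 : l = 1 := eq_one_of_mul_self_eq_one_char2 hll
  rw [hl1, map_one] at hl
  have c1 : ∀ y, (1 + n) * ((1 + n) * y) = y := fun y => by rw [← mul_assoc, h1, one_mul]
  have c2 : ∀ y, (1 + n') * ((1 + n') * y) = y := fun y => by rw [← mul_assoc, h2, one_mul]
  have hcomm : (1 + n) * (1 + n') = (1 + n') * (1 + n) := by
    calc (1 + n) * (1 + n') = (1 + n) * ((1 + n') * ((1 + n') * (1 + n) * ((1 + n') * (1 + n)))) := by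
          rw [hl, mul_one]
      _ = (1 + n') * (1 + n) := by simp only [mul_assoc, c1, c2, h1, h2, mul_one]
  have e1 : n * n' = (1 + n) * (1 + n') - 1 - n - n' := by noncomm_ring
  have e2 : n' * n = (1 + n') * (1 + n) - 1 - n - n' := by noncomm_ring
  rw [e1, e2, hcomm]

end two

/-! ### The group-theoretic statements -/

/-- The scalar-fixing (`F`-linear) part of a group of ring automorphisms of a matrix ring. -/
def linPart {n : Type*} [Fintype n] [DecidableEq n] (B : Subgroup (RingAut (Matrix n n F))) :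
    Subgroup (RingAut (Matrix n n F)) where
  carrier := {b | b ∈ B ∧ ∀ c : F, b (Matrix.scalar n c) = Matrix.scalar n c}
  one_mem' := ⟨B.one_mem, fun _ => rfl⟩
  mul_mem' := fun {a b} ha hb => ⟨B.mul_mem ha.1 hb.1, fun c => by
    rw [RingAut.mul_apply, hb.2, ha.2]⟩
  inv_mem' := fun {a} ha => ⟨B.inv_mem ha.1, fun c => by
    rw [RingAut.inv_apply, RingEquiv.symm_apply_eq, ha.2]⟩

theorem linPart_le {n : Type*} [Fintype n] [DecidableEq n] (B : Subgroup (RingAut (Matrix n n F))) :
    linPart B ≤ B := fun _ hb => hb.1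

/-- The subfield of `F` fixed by a group of ring automorphisms of a matrix ring (as a set). -/
def fixedSet {n : Type*} [Fintype n] [DecidableEq n] (B : Subgroup (RingAut (Matrix n n F))) : Set F :=
  {c | ∀ b ∈ B, b (Matrix.scalar n c) = Matrix.scalar n c}

section two'

variable [CharP F 2]

/-- (AUT-1) `|B⁰| ≤ |F₁|`. -/
theorem card_linPart_le [Finite F] (B : Subgroup (RingAut (Matrix (Fin 2) (Fin 2) F)))
    (hB2 : ∀ b ∈ B, b * b = 1) :
    Nat.card ↥(linPart B) ≤ Nat.card ↥(fixedSet B) := by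
  classical
  -- `B` is abelian
  have hcomm : ∀ b ∈ B, ∀ b' ∈ B, b * b' = b' * b := by
    intro b hb b' hb'
    have h1 := hB2 b hb
    have h2 := hB2 b' hb'
    have h3 := hB2 (b * b') (B.mul_mem hb hb')
    have e1 : b⁻¹ = b := inv_eq_of_mul_eq_one_left h1
    have e2 : b'⁻¹ = b' := inv_eq_of_mul_eq_one_left h2
    calc b * b' = (b * b')⁻¹ := (inv_eq_of_mul_eq_one_left h3).symm
      _ = b' * b := by rw [_root_.mul_inv_rev, e1, e2]
  have key : ∀ b : ↥(linPart B), ∃ n : Matrix (Fin 2) (Fin 2) F, n * n = 0 ∧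
      ∀ x, (b : RingAut (Matrix (Fin 2) (Fin 2) F)) x = (1 + n) * x * (1 + n) := by
    intro b
    refine exists_sq_zero_conj b.1 b.2.2 (fun x => ?_)
    have := hB2 b.1 b.2.1
    exact congrArg (fun e : RingAut (Matrix (Fin 2) (Fin 2) F) => e x) this
  choose ν hν using key
  -- elements of `B` fix the normalized conjugators
  have hfixν : ∀ (b : ↥(linPart B)), ∀ b1 ∈ B, b1 (ν b) = ν b := by
    intro b b1 hb1
    apply sq_zero_unique _ _ _ (hν b).1
    · intro x
      have h11 : ∀ y, b1 (b1 y) = y := fun y =>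
        congrArg (fun e : RingAut (Matrix (Fin 2) (Fin 2) F) => e y) (hB2 b1 hb1)
      have hbb1 : ∀ y, b1 (b.1 y) = b.1 (b1 y) := fun y =>
        congrArg (fun e : RingAut (Matrix (Fin 2) (Fin 2) F) => e y) (hcomm b1 hb1 b.1 b.2.1)
      calc (1 + b1 (ν b)) * x * (1 + b1 (ν b))
          = b1 ((1 + ν b) * (b1 x) * (1 + ν b)) := by
            rw [map_mul, map_mul, map_add, map_one, h11]
        _ = b1 (b.1 (b1 x)) := by rw [(hν b).2]
        _ = b.1 x := by rw [← hbb1, h11]
        _ = (1 + ν b) * x * (1 + ν b) := (hν b).2 x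
    · rw [← map_mul, (hν b).1, map_zero]
  by_cases hall : ∀ b : ↥(linPart B), ν b = 0
  · -- `linPart B` is trivial
    have hsub : Subsingleton ↥(linPart B) := by
      refine ⟨fun b b' => Subtype.ext (RingEquiv.ext fun x => ?_)⟩
      rw [(hν b).2, (hν b').2, hall b, hall b']
    have h1 : Nat.card ↥(linPart B) ≤ 1 := Finite.card_le_one_iff_subsingleton.mpr hsub
    have h2 : 0 < Nat.card ↥(fixedSet B) := by
      have : Nonempty ↥(fixedSet B) := ⟨⟨0, fun b _ => by simp⟩⟩
      exact Nat.card_pos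
    omega
  · obtain ⟨b0, hb0⟩ := not_forall.mp hall
    have hex : ∀ b : ↥(linPart B), ∃ c : ↥(fixedSet B), ν b = (c : F) • ν b0 := by
      intro b
      have hnn : ν b0 * ν b = ν b * ν b0 := by
        apply commute_of_conj_commute _ _ (hν b0).1 (hν b).1
        intro x
        have := congrArg (fun e : RingAut (Matrix (Fin 2) (Fin 2) F) => e x)
          (hcomm b0.1 b0.2.1 b.1 b.2.1)
        simp only [RingAut.mul_apply] at this
        rw [(hν b).2 x, (hν b0).2, (hν b0).2 x, (hν b).2] at this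
        exact this
      obtain ⟨c, hc⟩ := smul_of_commute_sq_zero (ν b0) (ν b) (hν b0).1 (hν b).1 hb0 hnn
      refine ⟨⟨c, fun b1 hb1 => ?_⟩, hc⟩
      obtain ⟨c', hc'⟩ := ringAut_scalar b1 c
      rw [hc']
      have h1 : b1 (ν b) = ν b := hfixν b b1 hb1
      have h2 : b1 (ν b0) = ν b0 := hfixν b0 b1 hb1
      have h3 : ν b = Matrix.scalar (Fin 2) c * ν b0 := by
        rw [hc]; ext i j; simp [Matrix.mul_apply, Matrix.scalar_apply, Matrix.diagonal]
      rw [h3, map_mul, hc', h2, ← h3, hc] at h1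
      have h4 : (c' - c) • ν b0 = 0 := by
        rw [sub_smul, ← h1]
        ext i j; simp [Matrix.mul_apply, Matrix.scalar_apply, Matrix.diagonal]
      rcases smul_eq_zero.mp h4 with h | h
      · rw [sub_eq_zero.mp h]
      · exact absurd h hb0
    choose φ hφ using hex
    have hinj : Function.Injective φ := by
      intro b b' hbb'
      refine Subtype.ext (RingEquiv.ext fun x => ?_)
      rw [(hν b).2, (hν b').2, hφ b, hφ b', hbb']
    exact Nat.card_le_card_of_injective φ hinj

end two'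

/-! ### The action on the centre and Artin's theorem -/

/-- The ring endomorphism of `F` induced on the centre of `M₂(F)`. -/
def centerHom (b : Matrix (Fin 2) (Fin 2) F ≃+* Matrix (Fin 2) (Fin 2) F) : F →+* F where
  toFun c := b (Matrix.scalar (Fin 2) c) 0 0
  map_one' := by simp
  map_mul' c d := by
    obtain ⟨c', hc'⟩ := ringAut_scalar b c
    obtain ⟨d', hd'⟩ := ringAut_scalar b d
    rw [map_mul (Matrix.scalar (Fin 2)), map_mul b, hc', hd', ← map_mul (Matrix.scalar (Fin 2))]
    simp [Matrix.scalar_apply]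
  map_zero' := by simp
  map_add' c d := by
    show b (Matrix.scalar (Fin 2) (c + d)) 0 0 = _
    rw [map_add (Matrix.scalar (Fin 2)), map_add b]
    rfl

theorem centerHom_spec (b : Matrix (Fin 2) (Fin 2) F ≃+* Matrix (Fin 2) (Fin 2) F) (c : F) :
    b (Matrix.scalar (Fin 2) c) = Matrix.scalar (Fin 2) (centerHom b c) := by
  obtain ⟨c', hc'⟩ := ringAut_scalar b c
  have : centerHom b c = c' := by
    show b (Matrix.scalar (Fin 2) c) 0 0 = c'
    rw [hc']; simp [Matrix.scalar_apply]
  rw [this, hc']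

theorem scalar_two_injective : Function.Injective (Matrix.scalar (Fin 2) : F → Matrix (Fin 2) (Fin 2) F) := by
  intro c d h
  have := congrFun (congrFun h 0) 0
  simpa [Matrix.scalar_apply] using this

theorem centerHom_comp (b b' : Matrix (Fin 2) (Fin 2) F ≃+* Matrix (Fin 2) (Fin 2) F) (c : F) :
    centerHom (b.trans b') c = centerHom b' (centerHom b c) := by
  apply scalar_two_injective
  rw [← centerHom_spec, ← centerHom_spec, ← centerHom_spec]
  rfl

theorem centerHom_refl (c : F) : centerHom (RingEquiv.refl (Matrix (Fin 2) (Fin 2) F)) c = c := by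
  apply scalar_two_injective
  rw [← centerHom_spec]
  rfl

/-- The automorphism of `F` induced on the centre of `M₂(F)`. -/
def centerAut (b : RingAut (Matrix (Fin 2) (Fin 2) F)) : RingAut F :=
  RingEquiv.ofRingHom (centerHom b) (centerHom b.symm)
    (by
      ext c
      show centerHom b (centerHom b.symm c) = c
      rw [← centerHom_comp, RingEquiv.symm_trans_self, centerHom_refl])
    (by
      ext c
      show centerHom b.symm (centerHom b c) = c
      rw [← centerHom_comp, RingEquiv.self_trans_symm, centerHom_refl])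

theorem centerAut_apply (b : RingAut (Matrix (Fin 2) (Fin 2) F)) (c : F) :
    centerAut b c = centerHom b c := rfl

/-- `centerAut` as a group homomorphism. -/
def centerAutHom : RingAut (Matrix (Fin 2) (Fin 2) F) →* RingAut F where
  toFun := centerAut
  map_one' := by
    ext c
    show centerHom (RingEquiv.refl _) c = c
    exact centerHom_refl c
  map_mul' b b' := by
    ext c
    show centerHom (b'.trans b) c = centerHom b (centerHom b' c)
    exact centerHom_comp b' b c

theorem mem_ker_centerAutHom (b : RingAut (Matrix (Fin 2) (Fin 2) F)) :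
    b ∈ (centerAutHom (F := F)).ker ↔ ∀ c : F, b (Matrix.scalar (Fin 2) c) = Matrix.scalar (Fin 2) c := by
  rw [MonoidHom.mem_ker]
  constructor
  · intro h c
    rw [centerHom_spec]
    congr 1
    have := congrArg (fun e : RingAut F => e c) h
    exact this
  · intro h
    ext c
    show centerHom b c = c
    apply scalar_two_injective
    rw [← centerHom_spec, h]

theorem linPart_eq_inf_ker (B : Subgroup (RingAut (Matrix (Fin 2) (Fin 2) F))) :
    linPart B = B ⊓ (centerAutHom (F := F)).ker := by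
  ext b
  rw [Subgroup.mem_inf, mem_ker_centerAutHom]
  rfl

/-- (AUT-2) Artin: `|F| = |F₁| ^ |B : B⁰|`. -/
theorem card_eq_card_fixedSet_pow [Finite F] (B : Subgroup (RingAut (Matrix (Fin 2) (Fin 2) F))) :
    Nat.card F = Nat.card ↥(fixedSet B) ^ ((linPart B).relIndex B) := by
  classical
  set Γ : Subgroup (RingAut F) := B.map centerAutHom with hΓ
  have : Finite (RingAut F) := Finite.of_injective (fun e : RingAut F => (e : F → F)) DFunLike.coe_injective
  letI : Fintype ↥Γ := Fintype.ofFinite _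
  have h1 := FixedPoints.finrank_eq_card ↥Γ F
  have h2 := Module.natCard_eq_pow_finrank (K := FixedPoints.subfield ↥Γ F) (V := F)
  have h3 : Nat.card ↥(FixedPoints.subfield ↥Γ F) = Nat.card ↥(fixedSet B) := by
    apply Nat.card_congr
    apply Equiv.subtypeEquivRight
    intro c
    show c ∈ MulAction.fixedPoints ↥Γ F ↔ _
    rw [MulAction.mem_fixedPoints]
    constructor
    · intro h b hb
      have := h ⟨centerAutHom b, Subgroup.mem_map_of_mem _ hb⟩
      rw [centerHom_spec]
      congr 1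
    · rintro h ⟨γ, b, hb, rfl⟩
      have := h b hb
      rw [centerHom_spec] at this
      exact scalar_two_injective this
  have h4 : Fintype.card ↥Γ = (linPart B).relIndex B := by
    rw [Fintype.card_eq_nat_card, hΓ, ← Subgroup.relIndex_ker, linPart_eq_inf_ker,
      Subgroup.inf_relIndex_left]
  rw [h2, h1, h3, h4]

/-- Arithmetic bookkeeping for (AUT-3). -/
theorem nat_aux (q r b0 b f : ℕ) (h1 : b0 ≤ q) (h2 : f = q ^ r) (h3 : r * b0 = b) (hq2 : 2 ≤ q)
    (hb : 0 < b) : b ≤ f := by
  have hr1 : r ≠ 0 := by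
    rintro rfl
    rw [zero_mul] at h3
    omega
  obtain ⟨k, rfl⟩ : ∃ k, r = k + 1 := ⟨r - 1, by omega⟩
  have hk : k + 1 ≤ 2 ^ k := Nat.lt_two_pow_self
  have hk2 : 2 ^ k ≤ q ^ k := Nat.pow_le_pow_left hq2 k
  calc b = (k + 1) * b0 := h3.symm
    _ ≤ (k + 1) * q := Nat.mul_le_mul_left _ h1
    _ ≤ q ^ k * q := Nat.mul_le_mul_right q (hk.trans hk2)
    _ = q ^ (k + 1) := (pow_succ q k).symm
    _ = f := h2.symm

/-- (AUT-3) `|B| ≤ |F|`. -/
theorem card_le_card_field [CharP F 2] [Finite F] (B : Subgroup (RingAut (Matrix (Fin 2) (Fin 2) F)))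
    (hB2 : ∀ b ∈ B, b * b = 1) : Nat.card ↥B ≤ Nat.card F := by
  classical
  have : Finite (RingAut (Matrix (Fin 2) (Fin 2) F)) :=
    Finite.of_injective (fun e : RingAut (Matrix (Fin 2) (Fin 2) F) =>
      (e : Matrix (Fin 2) (Fin 2) F → Matrix (Fin 2) (Fin 2) F)) DFunLike.coe_injective
  have h1 := card_linPart_le B hB2
  have h2 := card_eq_card_fixedSet_pow B
  have h3 : (linPart B).relIndex B * Nat.card ↥(linPart B) = Nat.card ↥B := by
    have := Subgroup.card_mul_index ((linPart B).subgroupOf B)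
    rw [Nat.card_congr (Subgroup.subgroupOfEquivOfLe (linPart_le B)).toEquiv] at this
    rw [Subgroup.relIndex, mul_comm]
    exact this
  have hq2 : 2 ≤ Nat.card ↥(fixedSet B) := by
    have h01 : (⟨0, fun b _ => by simp⟩ : ↥(fixedSet B)) ≠ ⟨1, fun b _ => by simp⟩ := by
      intro h
      exact zero_ne_one (congrArg Subtype.val h)
    have : 1 < Nat.card ↥(fixedSet B) := Finite.one_lt_card_iff_nontrivial.mpr ⟨_, _, h01⟩
    omega
  have hb : 0 < Nat.card ↥B := Nat.card_pos
  exact nat_aux _ _ _ _ _ h1 h2 h3 hq2 hb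

end Cfsg.Agent.Lib.Helper20.PGV
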