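import Mathlib
import Cfsg.Agent.Lib.Helper20.PGV.Aut2

/-!
# S3086 END2 M2-COUNT: counting fixed points of elementary abelian 2-groups of ring automorphisms of `M₂(F)`
-/

set_option autoImplicit false
set_option linter.unusedSimpArgs false

namespace Cfsg.Agent.Lib.Helper20.PGV

open Matrix

variable {F : Type*} [Field F]

/-- The centralizer of a nonzero square-zero `2 × 2` matrix (characteristic 2) has at most `|F|²` elements. -/
theorem card_centralizer_sq_zero_le [CharP F 2] [Finite F] (n : Matrix (Fin 2) (Fin 2) F) (hn : n * n = 0)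
    (hn0 : n ≠ 0) :
    Nat.card {x : Matrix (Fin 2) (Fin 2) F // n * x = x * n} ≤ Nat.card F ^ 2 := by
  classical
  have e00 := congrFun (congrFun hn 0) 0
  have e11 := congrFun (congrFun hn 1) 1
  simp only [Matrix.mul_apply, Fin.sum_univ_two, Matrix.zero_apply] at e00 e11
  have hd : n 1 1 = n 0 0 := by
    apply eq_of_mul_self_eq_char2
    have h1 : n 1 1 * n 1 1 = -(n 1 0 * n 0 1) := eq_neg_of_add_eq_zero_right e11
    have h2 : n 0 0 * n 0 0 = -(n 0 1 * n 1 0) := eq_neg_of_add_eq_zero_left e00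
    rw [h1, h2, mul_comm]
  have ha : n 0 0 * n 0 0 = n 0 1 * n 1 0 := by
    have h2 : n 0 0 * n 0 0 = -(n 0 1 * n 1 0) := eq_neg_of_add_eq_zero_left e00
    rw [h2, CharTwo.neg_eq]
  have hcardFF : Nat.card (F × F) = Nat.card F ^ 2 := by rw [Nat.card_prod, pow_two]
  rw [← hcardFF]
  by_cases hb : n 0 1 = 0
  · have ha0 : n 0 0 = 0 := by
      rw [hb, zero_mul] at ha
      exact mul_self_eq_zero.mp ha
    have hc0 : n 1 0 ≠ 0 := by
      intro h
      apply hn0
      ext i j
      fin_cases i <;> fin_cases j <;> simp [hb, ha0, h, hd]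
    -- x is determined by (x 0 0, x 1 0)
    apply Nat.card_le_card_of_injective
      (fun x : {x : Matrix (Fin 2) (Fin 2) F // n * x = x * n} => ((x.1 0 0, x.1 1 0) : F × F))
    intro x y hxy
    have hx := x.2
    have hy := y.2
    have hx01 := congrFun (congrFun hx 1) 1
    have hx00 := congrFun (congrFun hx 1) 0
    have hy01 := congrFun (congrFun hy 1) 1
    have hy00 := congrFun (congrFun hy 1) 0
    simp only [Matrix.mul_apply, Fin.sum_univ_two, hb, ha0, hd, zero_mul, mul_zero, add_zero, zero_add]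
      at hx01 hx00 hy01 hy00
    simp only [Prod.mk.injEq] at hxy
    obtain ⟨h00, h10⟩ := hxy
    -- hx01 : n 1 0 * x 0 1 = 0 ; hx00 : n 1 0 * x 0 0 = x 1 1 * n 1 0
    have x01 : x.1 0 1 = 0 := by
      rcases mul_eq_zero.mp hx01 with h | h
      · exact absurd h hc0
      · exact h
    have y01 : y.1 0 1 = 0 := by
      rcases mul_eq_zero.mp hy01 with h | h
      · exact absurd h hc0
      · exact h
    have x11 : x.1 1 1 = x.1 0 0 := by
      have : n 1 0 * x.1 1 1 = n 1 0 * x.1 0 0 := by rw [hx00, mul_comm]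
      exact mul_left_cancel₀ hc0 this
    have y11 : y.1 1 1 = y.1 0 0 := by
      have : n 1 0 * y.1 1 1 = n 1 0 * y.1 0 0 := by rw [hy00, mul_comm]
      exact mul_left_cancel₀ hc0 this
    apply Subtype.ext
    ext i j
    fin_cases i <;> fin_cases j
    · exact h00
    · show x.1 0 1 = y.1 0 1
      rw [x01, y01]
    · exact h10
    · show x.1 1 1 = y.1 1 1
      rw [x11, y11, h00]
  · -- x is determined by (x 0 0, x 0 1)
    apply Nat.card_le_card_of_injective
      (fun x : {x : Matrix (Fin 2) (Fin 2) F // n * x = x * n} => ((x.1 0 0, x.1 0 1) : F × F))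
    intro x y hxy
    have hx := x.2
    have hy := y.2
    have hx01 := congrFun (congrFun hx 0) 1
    have hx00 := congrFun (congrFun hx 0) 0
    have hy01 := congrFun (congrFun hy 0) 1
    have hy00 := congrFun (congrFun hy 0) 0
    simp only [Matrix.mul_apply, Fin.sum_univ_two, hd] at hx01 hx00 hy01 hy00
    simp only [Prod.mk.injEq] at hxy
    obtain ⟨h00, h01⟩ := hxy
    -- hx01 : n 0 0 * x 0 1 + n 0 1 * x 1 1 = x 0 0 * n 0 1 + x 0 1 * n 0 0
    -- hx00 : n 0 0 * x 0 0 + n 0 1 * x 1 0 = x 0 0 * n 0 0 + x 0 1 * n 1 0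
    have x11 : x.1 1 1 = x.1 0 0 := by
      have : n 0 1 * x.1 1 1 = n 0 1 * x.1 0 0 := by
        have h := hx01
        rw [mul_comm (n 0 0) (x.1 0 1), add_comm] at h
        have h' := add_right_cancel h
        rw [h', mul_comm]
      exact mul_left_cancel₀ hb this
    have y11 : y.1 1 1 = y.1 0 0 := by
      have : n 0 1 * y.1 1 1 = n 0 1 * y.1 0 0 := by
        have h := hy01
        rw [mul_comm (n 0 0) (y.1 0 1), add_comm] at h
        have h' := add_right_cancel h
        rw [h', mul_comm]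
      exact mul_left_cancel₀ hb this
    have x10 : n 0 1 * x.1 1 0 = x.1 0 1 * n 1 0 := by
      have h := hx00
      rw [mul_comm (n 0 0) (x.1 0 0)] at h
      exact add_left_cancel h
    have y10 : n 0 1 * y.1 1 0 = y.1 0 1 * n 1 0 := by
      have h := hy00
      rw [mul_comm (n 0 0) (y.1 0 0)] at h
      exact add_left_cancel h
    apply Subtype.ext
    ext i j
    fin_cases i <;> fin_cases j
    · exact h00
    · exact h01
    · show x.1 1 0 = y.1 1 0
      apply mul_left_cancel₀ hb
      rw [x10, y10, h01]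
    · show x.1 1 1 = y.1 1 1
      rw [x11, y11, h00]

omit [Field F] in
theorem card_matrix_two [Finite F] : Nat.card (Matrix (Fin 2) (Fin 2) F) = (Nat.card F ^ 2) ^ 2 := by
  show Nat.card (Fin 2 → Fin 2 → F) = _
  rw [Nat.card_fun, Nat.card_fun, Nat.card_eq_fintype_card (α := Fin 2), Fintype.card_fin]

/-- A nontrivial involutive ring automorphism of `M₂(F)` (`F` finite of characteristic 2) has at most `|F|²` fixed
points. -/
theorem card_fixed_le [CharP F 2] [Finite F] (b : RingAut (Matrix (Fin 2) (Fin 2) F)) (hb1 : b ≠ 1)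
    (hb2 : b * b = 1) :
    Nat.card {x : Matrix (Fin 2) (Fin 2) F // b x = x} ≤ Nat.card F ^ 2 := by
  classical
  by_cases hlin : ∀ c : F, b (Matrix.scalar (Fin 2) c) = Matrix.scalar (Fin 2) c
  · obtain ⟨n, hn, hconj⟩ := exists_sq_zero_conj b hlin
      (fun x => congrArg (fun e : RingAut (Matrix (Fin 2) (Fin 2) F) => e x) hb2)
    have hn0 : n ≠ 0 := by
      rintro rfl
      apply hb1
      ext x
      rw [hconj x]
      simp
    have h1 := one_add_sq_zero_mul_self n hn
    refine le_trans ?_ (card_centralizer_sq_zero_le n hn hn0)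
    apply Nat.card_le_card_of_injective
      (fun x : {x : Matrix (Fin 2) (Fin 2) F // b x = x} =>
        (⟨x.1, by
          have hx := x.2
          rw [hconj] at hx
          have h2 : (1 + n) * x.1 = x.1 * (1 + n) := by
            calc (1 + n) * x.1 = (1 + n) * x.1 * ((1 + n) * (1 + n)) := by rw [h1, mul_one]
              _ = ((1 + n) * x.1 * (1 + n)) * (1 + n) := by simp only [mul_assoc]
              _ = x.1 * (1 + n) := by rw [hx]
          rw [add_mul, mul_add, one_mul, mul_one] at h2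
          exact add_left_cancel h2⟩ : {x : Matrix (Fin 2) (Fin 2) F // n * x = x * n}))
    intro x y hxy
    exact Subtype.ext (congrArg (fun z => z.1) hxy)
  · obtain ⟨c, hc⟩ := not_forall.mp hlin
    obtain ⟨c', hc'⟩ := ringAut_scalar b c
    have hcc' : c ≠ c' := by
      rintro rfl
      exact hc hc'
    have hinj : Function.Injective
        (fun p : {x : Matrix (Fin 2) (Fin 2) F // b x = x} × {x : Matrix (Fin 2) (Fin 2) F // b x = x} =>
          p.1.1 + Matrix.scalar (Fin 2) c * p.2.1) := by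
      rintro ⟨⟨x, hx⟩, ⟨y, hy⟩⟩ ⟨⟨x', hx'⟩, ⟨y', hy'⟩⟩ h
      simp only at h
      have h2 := congrArg b h
      rw [map_add, map_add, map_mul, map_mul, hx, hy, hx', hy', hc'] at h2
      -- subtract
      have h3 : Matrix.scalar (Fin 2) (c - c') * (y - y') = 0 := by
        rw [map_sub, sub_mul, mul_sub, mul_sub]
        have e1 : Matrix.scalar (Fin 2) c * y - Matrix.scalar (Fin 2) c * y' = x' - x := by
          rw [sub_eq_sub_iff_add_eq_add, add_comm _ x, h, add_comm]
        have e2 : Matrix.scalar (Fin 2) c' * y - Matrix.scalar (Fin 2) c' * y' = x' - x := by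
          rw [sub_eq_sub_iff_add_eq_add, add_comm _ x, h2, add_comm]
        rw [e1, e2, sub_self]
      have hne : c - c' ≠ 0 := sub_ne_zero.mpr hcc'
      have h4 : y - y' = 0 := by
        have := congrArg (fun z => Matrix.scalar (Fin 2) (c - c')⁻¹ * z) h3
        simp only [mul_zero, ← mul_assoc, ← map_mul, inv_mul_cancel₀ hne, map_one, one_mul] at this
        exact this
      have hyy : y = y' := sub_eq_zero.mp h4
      subst hyy
      have hxx : x = x' := add_right_cancel h
      subst hxx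
      rfl
    have hle := Nat.card_le_card_of_injective _ hinj
    rw [Nat.card_prod, card_matrix_two, ← pow_two] at hle
    exact (Nat.pow_le_pow_iff_left (by norm_num)).mp hle

/-- The trace-zero `2 × 2` matrices number at most `|F|³`. -/
theorem card_trace_zero_le [Finite F] :
    Nat.card {x : Matrix (Fin 2) (Fin 2) F // x.trace = 0} ≤ Nat.card F ^ 3 := by
  have hcard : Nat.card (F × F × F) = Nat.card F ^ 3 := by
    rw [Nat.card_prod, Nat.card_prod]; ring
  rw [← hcard]
  apply Nat.card_le_card_of_injective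
    (fun x : {x : Matrix (Fin 2) (Fin 2) F // x.trace = 0} => ((x.1 0 0, x.1 0 1, x.1 1 0) : F × F × F))
  intro x y hxy
  simp only [Prod.mk.injEq] at hxy
  obtain ⟨h00, h01, h10⟩ := hxy
  have hx := x.2
  have hy := y.2
  rw [Matrix.trace_fin_two] at hx hy
  have h11 : x.1 1 1 = y.1 1 1 := by
    have e1 : x.1 1 1 = -x.1 0 0 := eq_neg_of_add_eq_zero_right hx
    have e2 : y.1 1 1 = -y.1 0 0 := eq_neg_of_add_eq_zero_right hy
    rw [e1, e2, h00]
  apply Subtype.ext
  ext i j
  fin_cases i <;> fin_cases j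
  · exact h00
  · exact h01
  · exact h10
  · exact h11

/-- (M2-COUNT) -/
theorem m2_count [Finite F] [CharP F 2] (hq : 2 < Nat.card F)
    (B : Subgroup (RingAut (Matrix (Fin 2) (Fin 2) F))) (hB2 : ∀ b ∈ B, b * b = 1) :
    2 * Nat.card ↥B * Nat.card {x : Matrix (Fin 2) (Fin 2) F // x.trace = 0 ∧ ∀ b ∈ B, b x = x} <
      Nat.card (Matrix (Fin 2) (Fin 2) F) := by
  classical
  rw [card_matrix_two]
  generalize hqdef : Nat.card F = q at hq
  by_cases hB : ∃ b ∈ B, b ≠ 1
  · obtain ⟨b, hbB, hb1⟩ := hB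
    have h1 : Nat.card {x : Matrix (Fin 2) (Fin 2) F // x.trace = 0 ∧ ∀ b ∈ B, b x = x} ≤ q ^ 2 := by
      rw [← hqdef]
      refine le_trans ?_ (card_fixed_le b hb1 (hB2 b hbB))
      apply Nat.card_le_card_of_injective
        (fun x : {x : Matrix (Fin 2) (Fin 2) F // x.trace = 0 ∧ ∀ b ∈ B, b x = x} =>
          (⟨x.1, x.2.2 b hbB⟩ : {x : Matrix (Fin 2) (Fin 2) F // b x = x}))
      intro x y hxy
      exact Subtype.ext (congrArg (fun z => z.1) hxy)
    have h2 : Nat.card ↥B ≤ q := hqdef ▸ card_le_card_field B hB2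
    calc 2 * Nat.card ↥B * Nat.card {x : Matrix (Fin 2) (Fin 2) F // x.trace = 0 ∧ ∀ b ∈ B, b x = x}
        ≤ 2 * q * q ^ 2 := Nat.mul_le_mul (Nat.mul_le_mul_left 2 h2) h1
      _ < (q ^ 2) ^ 2 := by nlinarith [Nat.pos_of_ne_zero (show q ≠ 0 by omega), pow_pos (show 0 < q by omega) 2]
  · have hBbot : ∀ b ∈ B, b = 1 := fun b hb => by_contra fun hne => hB ⟨b, hb, hne⟩
    have hsub : Subsingleton ↥B := ⟨fun x y => Subtype.ext ((hBbot x x.2).trans (hBbot y y.2).symm)⟩
    have h2 : Nat.card ↥B = 1 := Nat.card_unique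
    have h1 : Nat.card {x : Matrix (Fin 2) (Fin 2) F // x.trace = 0 ∧ ∀ b ∈ B, b x = x} ≤ q ^ 3 := by
      rw [← hqdef]
      refine le_trans ?_ card_trace_zero_le
      apply Nat.card_le_card_of_injective
        (fun x : {x : Matrix (Fin 2) (Fin 2) F // x.trace = 0 ∧ ∀ b ∈ B, b x = x} =>
          (⟨x.1, x.2.1⟩ : {x : Matrix (Fin 2) (Fin 2) F // x.trace = 0}))
      intro x y hxy
      exact Subtype.ext (congrArg (fun z => z.1) hxy)
    rw [h2]
    calc 2 * 1 * Nat.card {x : Matrix (Fin 2) (Fin 2) F // x.trace = 0 ∧ ∀ b ∈ B, b x = x}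
        ≤ 2 * 1 * q ^ 3 := Nat.mul_le_mul_left _ h1
      _ < (q ^ 2) ^ 2 := by nlinarith [pow_pos (show 0 < q by omega) 3]

end Cfsg.Agent.Lib.Helper20.PGV
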