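import Mathlib

/-!
# S3086 END2 (E2): Clifford's theorem for subnormal subgroups and semisimplicity of the enveloping algebra
-/

set_option autoImplicit false

namespace Cfsg.Agent.Lib.Helper20.PGV

open Module

variable {k G W : Type*} [Field k] [Group G] [AddCommGroup W] [Module k W]

/-- (FAITH) A subalgebra of `End k W` over which the finite module `W` is semisimple is a semisimple ring. -/
theorem isSemisimpleRing_of_isSemisimpleModule [Module.Finite k W] (A : Subalgebra k (Module.End k W))
    [IsSemisimpleModule A W] : IsSemisimpleRing A := by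
  obtain ⟨n, s, hs⟩ := Module.Finite.exists_fin (R := k) (M := W)
  let φ : A →ₗ[A] (Fin n → W) :=
    { toFun := fun a i => a • s i
      map_add' := fun a b => by
        ext i
        simp [add_smul]
      map_smul' := fun a b => by
        ext i
        simp [mul_smul] }
  have hφ : Function.Injective φ := by
    rw [← LinearMap.ker_eq_bot, LinearMap.ker_eq_bot']
    intro a ha
    have h1 : ∀ i, (a : Module.End k W) (s i) = 0 := fun i => congrFun ha i
    apply Subtype.ext
    apply LinearMap.ext_on_range hs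
    intro i
    rw [h1 i]
    simp
  exact IsSemisimpleModule.of_injective φ hφ

/-- The enveloping algebra of (the image of) a subgroup. -/
abbrev algOf (ρ : Representation k G W) (H : Subgroup G) : Subalgebra k (Module.End k W) :=
  Algebra.adjoin k (ρ '' (H : Set G))

theorem algOf_mono (ρ : Representation k G W) {N H : Subgroup G} (h : N ≤ H) : algOf ρ N ≤ algOf ρ H :=
  Algebra.adjoin_mono (Set.image_mono h)

theorem rho_mem_algOf (ρ : Representation k G W) {H : Subgroup G} {h : G} (hh : h ∈ H) :
    ρ h ∈ algOf ρ H :=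
  Algebra.subset_adjoin ⟨h, hh, rfl⟩

/-- Conjugation by `ρ h` preserves the enveloping algebra of a subgroup normalized by `h`. -/
theorem conj_mem_algOf (ρ : Representation k G W) {N : Subgroup G} {h : G}
    (hh : ∀ n ∈ N, h⁻¹ * n * h ∈ N) {x : Module.End k W} (hx : x ∈ algOf ρ N) :
    ρ h⁻¹ * x * ρ h ∈ algOf ρ N := by
  have h1 : ρ h⁻¹ * ρ h = 1 := by rw [← map_mul, inv_mul_cancel, map_one]
  have h2 : ρ h * ρ h⁻¹ = 1 := by rw [← map_mul, mul_inv_cancel, map_one]
  induction hx using Algebra.adjoin_induction with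
  | mem x hx =>
    obtain ⟨n, hn, rfl⟩ := hx
    rw [← map_mul, ← map_mul]
    exact rho_mem_algOf ρ (hh n hn)
  | algebraMap c =>
    have : ρ h⁻¹ * (algebraMap k (Module.End k W) c) * ρ h = algebraMap k (Module.End k W) c := by
      rw [← Algebra.commutes, mul_assoc, h1, mul_one]
    rw [this]
    exact Subalgebra.algebraMap_mem _ c
  | add x y _ _ hx hy =>
    have : ρ h⁻¹ * (x + y) * ρ h = ρ h⁻¹ * x * ρ h + ρ h⁻¹ * y * ρ h := by
      rw [mul_add, add_mul]
    rw [this]
    exact add_mem hx hy
  | mul x y _ _ hx hy =>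
    have : ρ h⁻¹ * (x * y) * ρ h = (ρ h⁻¹ * x * ρ h) * (ρ h⁻¹ * y * ρ h) := by
      calc ρ h⁻¹ * (x * y) * ρ h = ρ h⁻¹ * x * 1 * y * ρ h := by simp only [mul_one, mul_assoc]
        _ = ρ h⁻¹ * x * (ρ h * ρ h⁻¹) * y * ρ h := by rw [h2]
        _ = _ := by simp only [mul_assoc]
    rw [this]
    exact mul_mem hx hy

/-- A subspace invariant under `H` is invariant under the enveloping algebra of `H`. -/
theorem mem_of_mem_algOf (ρ : Representation k G W) {H : Subgroup G} (U : Submodule k W)
    (hU : ∀ h ∈ H, ∀ u ∈ U, ρ h u ∈ U) {x : Module.End k W} (hx : x ∈ algOf ρ H) {u : W} (hu : u ∈ U) :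
    x u ∈ U := by
  induction hx using Algebra.adjoin_induction generalizing u with
  | mem x hx =>
    obtain ⟨h, hh, rfl⟩ := hx
    exact hU h hh u hu
  | algebraMap c =>
    rw [Module.algebraMap_end_apply]
    exact U.smul_mem c hu
  | add x y _ _ hx hy =>
    rw [LinearMap.add_apply]
    exact U.add_mem (hx hu) (hy hu)
  | mul x y _ _ hx hy =>
    rw [Module.End.mul_apply]
    exact hx (hy hu)

/-- An `H`-invariant `k`-subspace as a submodule over the enveloping algebra of `H`. -/
def subOfInv (ρ : Representation k G W) (H : Subgroup G) (U : Submodule k W)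
    (hU : ∀ h ∈ H, ∀ u ∈ U, ρ h u ∈ U) : Submodule (algOf ρ H) W where
  carrier := U
  add_mem' := U.add_mem
  zero_mem' := U.zero_mem
  smul_mem' := fun a _ hu => mem_of_mem_algOf ρ U hU a.2 hu

/-- Preimage of a submodule over `algOf ρ N` under `ρ g`, for `g` normalizing `N`. -/
def translate (ρ : Representation k G W) {N : Subgroup G} (g : G) (hg : ∀ n ∈ N, g * n * g⁻¹ ∈ N)
    (T : Submodule (algOf ρ N) W) : Submodule (algOf ρ N) W where
  carrier := {w | ρ g w ∈ T}
  add_mem' := fun {a b} ha hb => by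
    show ρ g (a + b) ∈ T
    rw [map_add]; exact T.add_mem ha hb
  zero_mem' := by
    show ρ g 0 ∈ T
    rw [map_zero]; exact T.zero_mem
  smul_mem' := fun a w hw => by
    show ρ g ((a : Module.End k W) w) ∈ T
    have hconj : ρ (g⁻¹)⁻¹ * (a : Module.End k W) * ρ g⁻¹ ∈ algOf ρ N :=
      conj_mem_algOf ρ (N := N) (h := g⁻¹) (fun n hn => by rw [inv_inv]; exact hg n hn) a.2
    rw [inv_inv] at hconj
    have h1 : ρ g⁻¹ * ρ g = 1 := by rw [← map_mul, inv_mul_cancel, map_one]
    have h2 : ρ g ((a : Module.End k W) w) = (ρ g * (a : Module.End k W) * ρ g⁻¹) (ρ g w) := by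
      simp only [Module.End.mul_apply]
      have : ρ g⁻¹ (ρ g w) = w := by
        rw [← Module.End.mul_apply, h1]; rfl
      rw [this]
    rw [h2]
    exact T.smul_mem ⟨_, hconj⟩ hw

theorem mem_translate (ρ : Representation k G W) {N : Subgroup G} (g : G) (hg : ∀ n ∈ N, g * n * g⁻¹ ∈ N)
    (T : Submodule (algOf ρ N) W) (w : W) : w ∈ translate ρ g hg T ↔ ρ g w ∈ T := Iff.rfl

theorem translate_mono (ρ : Representation k G W) {N : Subgroup G} (g : G) (hg : ∀ n ∈ N, g * n * g⁻¹ ∈ N)
    {T T' : Submodule (algOf ρ N) W} (h : T ≤ T') : translate ρ g hg T ≤ translate ρ g hg T' :=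
  fun _ hw => h hw

theorem translate_translate (ρ : Representation k G W) {N : Subgroup G} (g g' : G)
    (hg : ∀ n ∈ N, g * n * g⁻¹ ∈ N) (hg' : ∀ n ∈ N, g' * n * g'⁻¹ ∈ N) (hgg' : g' * g = 1)
    (T : Submodule (algOf ρ N) W) : translate ρ g hg (translate ρ g' hg' T) = T := by
  ext w
  rw [mem_translate, mem_translate, ← Module.End.mul_apply, ← map_mul, hgg', map_one]
  rfl

/-- `translate` as an order isomorphism. -/
def translateIso (ρ : Representation k G W) {N : Subgroup G} (g : G) (hg : ∀ n ∈ N, g * n * g⁻¹ ∈ N)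
    (hg' : ∀ n ∈ N, g⁻¹ * n * g⁻¹⁻¹ ∈ N) :
    Submodule (algOf ρ N) W ≃o Submodule (algOf ρ N) W where
  toFun := translate ρ g hg
  invFun := translate ρ g⁻¹ hg'
  left_inv := fun T => translate_translate ρ g⁻¹ g hg' hg (mul_inv_cancel g) T
  right_inv := fun T => translate_translate ρ g g⁻¹ hg hg' (inv_mul_cancel g) T
  map_rel_iff' := by
    intro T T'
    constructor
    · intro h
      have := translate_mono ρ g⁻¹ hg' h
      simp only [Equiv.coe_fn_mk] at this
      rwa [translate_translate ρ g⁻¹ g hg' hg (mul_inv_cancel g),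
        translate_translate ρ g⁻¹ g hg' hg (mul_inv_cancel g)] at this
    · exact fun h => translate_mono ρ g hg h

/-- (CLIFF) Clifford's theorem: if `W` is semisimple over the enveloping algebra of `H` and `N ≤ H` is normalized
by `H`, then `W` is semisimple over the enveloping algebra of `N`. -/
theorem isSemisimpleModule_algOf_of_normal [Module.Finite k W] (ρ : Representation k G W) {N H : Subgroup G}
    (hNH : N ≤ H) (hnorm : ∀ h ∈ H, ∀ n ∈ N, h * n * h⁻¹ ∈ N) [IsSemisimpleModule (algOf ρ H) W] :
    IsSemisimpleModule (algOf ρ N) W := by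
  classical
  have : IsArtinian (algOf ρ N) W := isArtinian_of_tower k inferInstance
  apply IsSemisimpleModule.of_sSup_simples_eq_top
  set S := sSup {m : Submodule (algOf ρ N) W | IsSimpleModule (algOf ρ N) m} with hS
  have hinv : ∀ h ∈ H, ∀ u ∈ S, ρ h u ∈ S := by
    intro h hh
    have hh' : ∀ n ∈ N, h⁻¹ * n * h⁻¹⁻¹ ∈ N := hnorm h⁻¹ (H.inv_mem hh)
    have hle : S ≤ translate ρ h (hnorm h hh) S := by
      apply sSup_le
      intro m hm
      have hm' : IsAtom m := isSimpleModule_iff_isAtom.mp hm
      have hatom : IsAtom (translate ρ h⁻¹ hh' m) :=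
        ((translateIso ρ h⁻¹ hh' (by rw [inv_inv]; exact hnorm h hh)).isAtom_iff m).mpr hm'
      have h1 : translate ρ h⁻¹ hh' m ≤ S := le_sSup (isSimpleModule_iff_isAtom.mpr hatom)
      have h2 := translate_mono ρ h (hnorm h hh) h1
      rwa [translate_translate ρ h h⁻¹ (hnorm h hh) hh' (inv_mul_cancel h)] at h2
    exact fun u hu => hle hu
  let SH : Submodule (algOf ρ H) W := subOfInv ρ H (S.restrictScalars k) hinv
  obtain ⟨C, hC⟩ := exists_isCompl SH
  have hC0 : C = ⊥ := by
    by_contra hne
    let CN : Submodule (algOf ρ N) W :=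
      { carrier := C
        add_mem' := C.add_mem
        zero_mem' := C.zero_mem
        smul_mem' := fun a w hw => C.smul_mem ⟨a, algOf_mono ρ hNH a.2⟩ hw }
    have hCN : CN ≠ ⊥ := by
      intro h
      apply hne
      rw [Submodule.eq_bot_iff] at h ⊢
      exact fun x hx => h x hx
    obtain ⟨T, hT, hTle⟩ := (eq_bot_or_exists_atom_le CN).resolve_left hCN
    have hTS : T ≤ S := le_sSup (isSimpleModule_iff_isAtom.mpr hT)
    obtain ⟨t, htT, ht0⟩ := (Submodule.ne_bot_iff T).mp hT.1
    have hmem : t ∈ SH ⊓ C := ⟨hTS htT, hTle htT⟩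
    rw [hC.inf_eq_bot, Submodule.mem_bot] at hmem
    exact ht0 hmem
  have hSH : SH = ⊤ := by
    have := hC.sup_eq_top
    rwa [hC0, sup_bot_eq] at this
  rw [eq_top_iff]
  intro w _
  have : w ∈ SH := by rw [hSH]; trivial
  exact this

/-- Clifford's theorem along a subnormal chain: an irreducible finite-dimensional representation is semisimple
over the enveloping algebra of every subnormal subgroup. -/
theorem isSemisimpleModule_algOf_of_isSubnormal [Module.Finite k W] (ρ : Representation k G W)
    (hirr : ∀ U : Submodule k W, (∀ g : G, ∀ u ∈ U, ρ g u ∈ U) → U = ⊥ ∨ U = ⊤)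
    {K : Subgroup G} (hK : K.IsSubnormal) : IsSemisimpleModule (algOf ρ K) W := by
  induction hK with
  | top =>
    refine @IsSemisimpleModule.mk _ _ _ _ _ ⟨fun U => ?_⟩
    have h := hirr (U.restrictScalars k)
      (fun g u hu => U.smul_mem ⟨ρ g, rho_mem_algOf ρ (Subgroup.mem_top g)⟩ hu)
    rcases h with h | h
    · have hU : U = ⊥ := by
        rw [Submodule.eq_bot_iff] at h ⊢
        exact fun x hx => h x hx
      exact ⟨⊤, hU ▸ isCompl_bot_top⟩
    · have hU : U = ⊤ := by
        rw [eq_top_iff] at h ⊢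
        exact fun x hx => h hx
      exact ⟨⊥, hU ▸ isCompl_top_bot⟩
  | step H K' hle hsub hN ih =>
    have := ih
    exact isSemisimpleModule_algOf_of_normal ρ hle
      (fun h hh n hn => (Subgroup.normal_subgroupOf_iff hle).mp hN n h hn hh)

/-- (E2) The enveloping algebra of a subnormal subgroup of a group acting irreducibly on a finite-dimensional space
is a semisimple ring. -/
theorem isSemisimpleRing_adjoin_of_isSubnormal [Module.Finite k W] (ρ : Representation k G W)
    (hirr : ∀ U : Submodule k W, (∀ g : G, ∀ u ∈ U, ρ g u ∈ U) → U = ⊥ ∨ U = ⊤)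
    (K : Subgroup G) (hK : K.IsSubnormal) :
    IsSemisimpleRing ↥(Algebra.adjoin k (ρ '' (K : Set G))) := by
  have := isSemisimpleModule_algOf_of_isSubnormal ρ hirr hK
  exact isSemisimpleRing_of_isSemisimpleModule (algOf ρ K)

/-- The enveloping algebra of a subgroup is the linear span of its image. -/
theorem algOf_toSubmodule_eq_span (ρ : Representation k G W) (K : Subgroup G) :
    Subalgebra.toSubmodule (Algebra.adjoin k (ρ '' (K : Set G))) = Submodule.span k (ρ '' (K : Set G)) := by
  rw [Algebra.adjoin_eq_span]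
  congr 1
  have : (ρ '' (K : Set G)) = ((K.toSubmonoid.map (ρ : G →* Module.End k W) : Submonoid (Module.End k W)) : Set _) := by
    ext x; simp
  rw [this, Submonoid.closure_eq]

end Cfsg.Agent.Lib.Helper20.PGV
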