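import Mathlib
import Cfsg.Prelude.Def_Local
import Cfsg.Prelude.Def_Transfer
import Cfsg.Agent.Lib.Helper41.PGV.Defs
import Cfsg.Agent.Lib.Helper41.PGV.Defs2
import Cfsg.Agent.Lib.Helper95.PgvDelta
import Cfsg.Agent.Lib.Helper39.PgvLocExact

/-!
# Project PGV (S3086), sub-project RED: [RED-3] and [RED-3-COR] (hedge by helper20; exact sheet statements)
-/

set_option autoImplicit false
set_option linter.unusedSectionVars false

universe v

namespace Cfsg.Agent.Lib.Helper41.PGV.H20

open Cfsg Cfsg.Agent.Lib.Helper41.PGV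

variable {p : ℕ} [Fact p.Prime] {G V : Type v} [Group G] [Finite G] [AddCommGroup V] [Finite V] [Module (ZMod p) V]
  {ρ : Representation (ZMod p) G V} {A K1 : Subgroup G} {a : G}

/-- **[RED-3]** the `A`-orbit of `K1` is `{K1, K1^a}`. -/
theorem red_3 (hp : p = 2) (h : CE ρ A K1 a) (b : G) (hb : b ∈ A) : cj K1 b = K1 ∨ cj K1 b = cj K1 a := by
  by_contra hne
  obtain ⟨_, hDa, _⟩ := delta_basic hp h
  have hconj := (delta_conj hp h b hb).2 hne
  have hcomp := delta_comp hp h
  have ha1 : a ≠ 1 := by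
    rintro rfl
    exact h.move (h95_cj_one K1)
  have hcomA : ∀ x ∈ A, ∀ y ∈ A, x * y = y * x := by
    intro x hx y hy
    have := h.el.1.is_comm.comm (⟨x, hx⟩ : A) ⟨y, hy⟩
    exact congrArg Subtype.val this
  have hcen : Subgroup.centralizer ((Subgroup.zpowers a : Subgroup G) : Set G) =
      Subgroup.centralizer ({a} : Set G) := by
    rw [Subgroup.zpowers_eq_closure, Subgroup.centralizer_closure]
  refine H39.loc h.inj h.el h.off h.ih (Subgroup.zpowers a) (Delta K1 a ⊔ A) (Delta K1 a) ?_ ?_ ?_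
    le_sup_right le_sup_left hcomp b hb ?_
  · rw [Subgroup.zpowers_le]; exact h.mem
  · intro hbot
    exact ha1 (Subgroup.zpowers_eq_bot.mp hbot)
  · rw [hcen, sup_le_iff]
    constructor
    · intro u hu
      rw [Subgroup.mem_centralizer_singleton_iff]
      exact (hDa u hu).symm
    · intro x hx
      rw [Subgroup.mem_centralizer_singleton_iff]
      exact hcomA x hx a h.mem
  · intro x hx y hy
    exact hconj x hx y hy

theorem mem_normalizer_of_cj_eq {K : Subgroup G} {b : G} (h : cj K b = K) :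
    b ∈ Subgroup.normalizer (K : Set G) := by
  rw [Subgroup.mem_normalizer_iff_map_conj_eq]
  exact h

theorem cj_eq_of_mem_normalizer {K : Subgroup G} {b : G} (h : b ∈ Subgroup.normalizer (K : Set G)) :
    cj K b = K := by
  rw [Subgroup.mem_normalizer_iff_map_conj_eq] at h
  exact h

/-- **[RED-3-COR]** `A = B ∪ aB`, `|A| = 2 |B|` for `B = N_A(K1)`. -/
theorem red_3_cor (hp : p = 2) (h : CE ρ A K1 a) :
    (∀ b ∈ A, b ∈ NA A K1 ∨ a * b ∈ NA A K1) ∧ Nat.card A = 2 * Nat.card (NA A K1) := by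
  obtain ⟨ha2, _, _, _⟩ := h95_ce_facts hp h
  have hainv : a⁻¹ = a := inv_eq_of_mul_eq_one_left ha2
  have hcomA : ∀ x ∈ A, ∀ y ∈ A, x * y = y * x := by
    intro x hx y hy
    have := h.el.1.is_comm.comm (⟨x, hx⟩ : A) ⟨y, hy⟩
    exact congrArg Subtype.val this
  have haN : a ∉ Subgroup.normalizer (K1 : Set G) := fun hmem => h.move (cj_eq_of_mem_normalizer hmem)
  have part1 : ∀ b ∈ A, b ∈ NA A K1 ∨ a * b ∈ NA A K1 := by
    intro b hb
    rcases red_3 hp h b hb with h1 | h1
    · exact Or.inl ⟨hb, mem_normalizer_of_cj_eq h1⟩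
    · right
      refine ⟨A.mul_mem h.mem hb, mem_normalizer_of_cj_eq ?_⟩
      have h2 : cj (cj K1 b) a⁻¹ = cj (cj K1 a) a⁻¹ := by rw [h1]
      rw [h95_cj_cj, h95_cj_cj, inv_mul_cancel, h95_cj_one, hainv] at h2
      exact h2
  refine ⟨part1, ?_⟩
  have hBA : NA A K1 ≤ A := inf_le_left
  have hidx : ((NA A K1).subgroupOf A).index = 2 := by
    rw [Subgroup.index_eq_two_iff]
    refine ⟨⟨a, h.mem⟩, fun b => ?_⟩
    have hb := b.2
    rcases part1 b.1 hb with h1 | h1
    · -- b ∈ B, so b * a ∉ B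
      refine Or.inr ⟨Subgroup.mem_subgroupOf.mpr h1, fun h2 => ?_⟩
      have h3 : (b.1 * a) ∈ NA A K1 := Subgroup.mem_subgroupOf.mp h2
      have h4 : a ∈ NA A K1 := by
        have := (NA A K1).mul_mem ((NA A K1).inv_mem h1) h3
        rwa [inv_mul_cancel_left] at this
      exact haN h4.2
    · -- a * b ∈ B, so b ∉ B
      have h2 : b.1 * a ∈ NA A K1 := by rw [hcomA b.1 hb a h.mem]; exact h1
      refine Or.inl ⟨Subgroup.mem_subgroupOf.mpr h2, fun h3 => ?_⟩
      have h3' : b.1 ∈ NA A K1 := Subgroup.mem_subgroupOf.mp h3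
      have h4 : a ∈ NA A K1 := by
        have := (NA A K1).mul_mem ((NA A K1).inv_mem h3') h2
        rwa [inv_mul_cancel_left] at this
      exact haN h4.2
  have hcard := Subgroup.card_mul_index ((NA A K1).subgroupOf A)
  rw [hidx, Nat.card_congr (Subgroup.subgroupOfEquivOfLe hBA).toEquiv] at hcard
  rw [← hcard, mul_comm]

end Cfsg.Agent.Lib.Helper41.PGV.H20
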